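import Cfsg.Agent.H4.GlaubermanReplacement
import Cfsg.Agent.PSolv.Cores
import Cfsg.Agent.PGroup.Frattini
import Cfsg.Agent.Transfer.Residual
import Cfsg.Agent.PSolv.OmegaCenter
import Cfsg.Agent.LocalEven.CharP

/-!
Glauberman's ZJ theorem for the elementary abelian Thompson subgroup and its full centre.
-/

set_option autoImplicit false

open scoped commutatorElement Pointwise

namespace Cfsg.Agent.H4

variable {G : Type*} [Group G] [Finite G] {p : ℕ} [Fact p.Prime]

/-- The preimage of `O_p(G / C(B))`. -/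
def stabCore (p : ℕ) (B : Subgroup G) [B.Normal] : Subgroup G :=
  (Cfsg.pCore p (G ⧸ Subgroup.centralizer (B : Set G))).comap
    (QuotientGroup.mk' (Subgroup.centralizer (B : Set G)))

omit [Finite G] [Fact p.Prime] in
theorem stabCore_normal (B : Subgroup G) [B.Normal] : (stabCore p B).Normal := by
  have h : (Cfsg.pCore p (G ⧸ Subgroup.centralizer (B : Set G))).Normal := by
    have := PSolv.pCore_characteristic p (G ⧸ Subgroup.centralizer (B : Set G))
    infer_instance
  exact h.comap _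

omit [Finite G] [Fact p.Prime] in
theorem centralizer_le_stabCore (B : Subgroup G) [B.Normal] :
    Subgroup.centralizer (B : Set G) ≤ stabCore p B :=
  QuotientGroup.le_comap_mk' _ _

omit [Finite G] [Fact p.Prime] in
theorem exists_pow_mem_centralizer {B : Subgroup G} [B.Normal] {g : G} (hg : g ∈ stabCore p B) :
    ∃ n : ℕ, g ^ p ^ n ∈ Subgroup.centralizer (B : Set G) := by
  obtain ⟨n, hn⟩ := PSolv.isPGroup_pCore p (G ⧸ Subgroup.centralizer (B : Set G)) ⟨_, hg⟩
  have h : ((g : G ⧸ Subgroup.centralizer (B : Set G))) ^ p ^ n = 1 := congrArg Subtype.val hn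
  refine ⟨n, (QuotientGroup.eq_one_iff _).mp ?_⟩
  rw [QuotientGroup.mk_pow, h]

omit [Finite G] [Fact p.Prime] in
theorem le_stabCore {B : Subgroup G} [B.Normal] {M : Subgroup G} (hM : M.Normal)
    (h : ∀ g ∈ M, ∃ n : ℕ, g ^ p ^ n ∈ Subgroup.centralizer (B : Set G)) : M ≤ stabCore p B := by
  refine (Subgroup.map_le_iff_le_comap).mp (PSolv.le_pCore ?_ ?_)
  · exact hM.map _ (QuotientGroup.mk'_surjective _)
  · rintro ⟨_, g, hg, rfl⟩
    obtain ⟨n, hn⟩ := h g hg
    refine ⟨n, Subtype.ext ?_⟩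
    show (QuotientGroup.mk' (Subgroup.centralizer (B : Set G)) g) ^ p ^ n = 1
    rw [← map_pow]
    exact (QuotientGroup.eq_one_iff _).mpr hn

omit [Finite G] [Fact p.Prime] in
/-- Stabilising a series `B ≥ V ≥ 1` with `V` of exponent `p`. -/
theorem le_stabCore_of_series {B V : Subgroup G} [B.Normal] [V.Normal]
    (hVe : ∀ v ∈ V, v ^ p = 1) {M : Subgroup G} (hM : M.Normal)
    (hV : ∀ g ∈ M, ∃ n : ℕ, g ^ p ^ n ∈ Subgroup.centralizer (V : Set G))
    (hB : ∀ g ∈ M, ∃ n : ℕ, ∀ β ∈ B, ⁅g ^ p ^ n, β⁆ ∈ V) : M ≤ stabCore p B := by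
  refine le_stabCore hM fun g hg => ?_
  obtain ⟨n, hn⟩ := hV g hg
  obtain ⟨k, hk⟩ := hB g hg
  refine ⟨n + k + 1, Subgroup.mem_centralizer_iff.mpr fun β hβ => ?_⟩
  have hpow : ∀ (h : G), (∀ β ∈ B, ⁅h, β⁆ ∈ V) → ∀ i : ℕ, ∀ β ∈ B, ⁅h ^ i, β⁆ ∈ V := by
    intro h hh i
    induction i with
    | zero => intro β _; simp
    | succ i ih =>
      intro β hβ
      have h1 : ⁅h ^ (i + 1), β⁆ = h ^ i * ⁅h, β⁆ * (h ^ i)⁻¹ * ⁅h ^ i, β⁆ := by
        simp [commutatorElement_def, pow_succ, mul_assoc]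
      rw [h1]
      exact V.mul_mem (Subgroup.Normal.conj_mem ‹_› _ (hh β hβ) _) (ih β hβ)
  set h := g ^ p ^ (n + k) with hhdef
  have h1 : h ∈ Subgroup.centralizer (V : Set G) := by
    rw [hhdef, pow_add, pow_mul]
    exact pow_mem hn _
  have h2 : ⁅h, β⁆ ∈ V := by
    rw [hhdef, pow_add, mul_comm, pow_mul]
    exact hpow _ hk _ β hβ
  set v := ⁅h, β⁆ with hv
  have hhv : Commute h v := (Subgroup.mem_centralizer_iff.mp h1 v h2).symm
  have hi : ∀ i : ℕ, h ^ i * β * (h ^ i)⁻¹ = v ^ i * β := by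
    intro i
    induction i with
    | zero => simp
    | succ i ih =>
      calc h ^ (i + 1) * β * (h ^ (i + 1))⁻¹ = h * (h ^ i * β * (h ^ i)⁻¹) * h⁻¹ := by
            rw [pow_succ', mul_inv_rev]; simp only [mul_assoc]
        _ = h * (v ^ i * β) * h⁻¹ := by rw [ih]
        _ = v ^ i * (h * β * h⁻¹) := by rw [← mul_assoc, (hhv.pow_right i).eq]; group
        _ = v ^ i * (v * β) := by simp [hv, commutatorElement_def, mul_assoc]
        _ = _ := by rw [← mul_assoc, ← pow_succ]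
  have h3 : h ^ p * β * (h ^ p)⁻¹ = β := by rw [hi p, hVe v h2, one_mul]
  rw [pow_succ, pow_mul, ← hhdef]
  exact (mul_inv_eq_iff_eq_mul.mp h3).symm

/-- `P`-elements acting quadratically on a normal `p`-subgroup `B` lie in the preimage of
`O_p(G / C(B))`. -/
def ZJStable (p : ℕ) (P : Subgroup G) : Prop :=
  ∀ (B : Subgroup G) [B.Normal], IsPGroup p B → ∀ a ∈ P,
    (∀ β ∈ B, ⁅⁅β, a⁆, a⁆ = 1) → a ∈ stabCore p B

omit [Fact p.Prime] in
theorem centerThompsonOf_commute_max {P A : Subgroup G} (hA : A ∈ Modules.maxElemAbIn p P) {z a : G}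
    (hz : z ∈ Cfsg.centerThompsonOf p P) (ha : a ∈ A) : Commute z a :=
  (Subgroup.mem_centralizer_iff.mp hz.2 a (Modules.le_thompsonSubgroupOf hA ha)).symm

theorem centerThompson_inf_normal (hp2 : p ≠ 2) (P : Sylow p G) (hst : ZJStable p (P : Subgroup G)) :
    ∀ (B : Subgroup G), B.Normal → IsPGroup p B →
      (Cfsg.centerThompsonOf p (P : Subgroup G) ⊓ B).Normal := by
  classical
  intro B
  induction B using WellFoundedLT.induction with
  | ind B ih =>
  intro hBn hBp
  set Z := Cfsg.centerThompsonOf p (P : Subgroup G) with hZdef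
  set W := Z ⊓ B with hWdef
  haveI := hBn
  rcases eq_or_ne B ⊥ with hBbot | hBbot
  · rw [hWdef, hBbot, inf_bot_eq]; infer_instance
  have hBP : B ≤ (P : Subgroup G) := (PSolv.le_pCore hBn hBp).trans (PSolv.pCore_le_sylow P)
  have hPB : (P : Subgroup G) ≤ Subgroup.normalizer (B : Set G) := Subgroup.le_normalizer_of_normal
  have hNW : ∀ g, g ∈ Subgroup.normalizer (Z : Set G) → g ∈ Subgroup.normalizer (W : Set G) :=
    fun g hg => Subgroup.mem_normalizer_iff.mpr fun y =>
      ⟨fun hy => ⟨(Subgroup.mem_normalizer_iff.mp hg y).mp hy.1, hBn.conj_mem y hy.2 g⟩,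
        fun hy => ⟨(Subgroup.mem_normalizer_iff.mp hg y).mpr hy.1, by
          simpa [mul_assoc] using hBn.conj_mem _ hy.2 g⁻¹⟩⟩
  have hPW : (P : Subgroup G) ≤ Subgroup.normalizer (W : Set G) := fun g hg =>
    hNW g (Modules.normalizer_le_normalizer_centerThompsonOf p _ (Subgroup.le_normalizer hg))
  set B1 := Subgroup.normalClosure (W : Set G) with hB1def
  have hB1le : B1 ≤ B := Subgroup.normalClosure_le_normal (fun x hx => hx.2)
  rcases hB1le.lt_or_eq with hlt | hB1
  · have h := ih B1 hlt inferInstance (hBp.to_le hB1le)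
    have heq : Z ⊓ B1 = W := le_antisymm (inf_le_inf_left _ hB1le)
      (le_inf inf_le_left Subgroup.subset_normalClosure)
    rwa [← heq]
  -- the Frattini subgroup of `B`
  set F := (frattini B).map B.subtype with hFdef
  have hBnt : Nontrivial B := B.nontrivial_iff_ne_bot.mpr hBbot
  have hFlt : F < B := by
    refine lt_of_le_of_ne (Subgroup.map_subtype_le _) fun he => ?_
    have htop : frattini B = ⊤ := eq_top_iff.mpr fun y _ => by
      obtain ⟨w, hw, hwy⟩ := he.ge y.2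
      exact Subtype.ext (a1 := w) (a2 := y) hwy ▸ hw
    have h := frattini_nongenerating (K := (⊥ : Subgroup B)) (by rw [htop, sup_top_eq])
    exact bot_ne_top h
  haveI hFn : F.Normal := PSolv.map_subtype_normal inferInstance
  set N := Z ⊓ F with hNdef
  haveI hNn : N.Normal := ih F hFlt hFn (hBp.to_le hFlt.le)
  have hgen : ∀ (S : Subgroup G), (∀ w ∈ W, ∀ g : G, g * w * g⁻¹ ∈ S) → B ≤ S := by
    intro S hS
    rw [← hB1, hB1def, Subgroup.normalClosure, Subgroup.closure_le]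
    intro x hx
    obtain ⟨w, hw, hc⟩ := Group.mem_conjugatesOfSet_iff.mp hx
    obtain ⟨g, rfl⟩ := isConj_iff.mp hc
    exact hS w hw g
  have hcF : ∀ x ∈ B, ∀ y ∈ B, ⁅x, y⁆ ∈ F := fun x hx y hy =>
    ⟨⁅(⟨x, hx⟩ : B), ⟨y, hy⟩⁆, PGroup.commutatorElement_mem_frattini hBp _ _, rfl⟩
  have hpF : ∀ x ∈ B, x ^ p ∈ F := fun x hx =>
    ⟨(⟨x, hx⟩ : B) ^ p, PGroup.pow_mem_frattini hBp _, rfl⟩
  -- `N` is central in `B`
  have hNB : B ≤ Subgroup.centralizer (N : Set G) := by
    refine hgen _ fun w hw g => Subgroup.mem_centralizer_iff.mpr fun n hn => ?_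
    have hn' : g⁻¹ * n * g ∈ N := by simpa using hNn.conj_mem n hn g⁻¹
    have h1 := Subgroup.mem_centralizer_iff.mp hw.1.2 _
      (Modules.centerThompsonOf_le_thompson p _ hn'.1)
    calc n * (g * w * g⁻¹) = g * (g⁻¹ * n * g * w) * g⁻¹ := by group
      _ = g * (w * (g⁻¹ * n * g)) * g⁻¹ := by rw [h1]
      _ = g * w * g⁻¹ * n := by group
  -- commutators of `B` lie in `N`
  have hBN : ∀ x ∈ B, ∀ y ∈ B, ⁅x, y⁆ ∈ N := by
    let S : Subgroup G :=
      { carrier := {x | x ∈ B ∧ ∀ y ∈ B, ⁅x, y⁆ ∈ N}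
        one_mem' := ⟨one_mem _, fun y _ => by simp⟩
        mul_mem' := fun {a b} ha hb => ⟨B.mul_mem ha.1 hb.1, fun y hy => by
          have h1 : ⁅a * b, y⁆ = a * ⁅b, y⁆ * a⁻¹ * ⁅a, y⁆ := by
            simp [commutatorElement_def, mul_assoc]
          rw [h1]
          exact N.mul_mem (hNn.conj_mem _ (hb.2 y hy) a) (ha.2 y hy)⟩
        inv_mem' := fun {a} ha => ⟨B.inv_mem ha.1, fun y hy => by
          have h1 : ⁅a⁻¹, y⁆ = a⁻¹ * ⁅a, y⁆⁻¹ * a := by simp [commutatorElement_def, mul_assoc]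
          rw [h1]
          simpa using hNn.conj_mem _ (N.inv_mem (ha.2 y hy)) a⁻¹⟩ }
    have hle : B ≤ S := by
      refine hgen S fun w hw g => ⟨hBn.conj_mem w hw.2 g, fun y hy => ?_⟩
      have hy' : g⁻¹ * y * g ∈ B := by simpa using hBn.conj_mem y hy g⁻¹
      have h1 : ⁅g * w * g⁻¹, y⁆ = g * ⁅w, g⁻¹ * y * g⁆ * g⁻¹ := by
        simp [commutatorElement_def, mul_assoc]
      rw [h1]
      refine hNn.conj_mem _ ⟨?_, hcF w hw.2 _ hy'⟩ g
      have h2 := (Subgroup.mem_normalizer_iff.mp (hPW (hBP hy')) w⁻¹).mp (inv_mem hw)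
      simpa [commutatorElement_def, mul_assoc] using Z.mul_mem hw.1 h2.1
    exact fun x hx y hy => (hle hx).2 y hy
  -- p-th powers of `B` lie in `N`
  have hBpN : ∀ x ∈ B, x ^ p ∈ N := by
    let S : Subgroup G :=
      { carrier := {x | x ∈ B ∧ x ^ p ∈ N}
        one_mem' := ⟨one_mem _, by simp⟩
        mul_mem' := fun {a b} ha hb => ⟨B.mul_mem ha.1 hb.1, by
          have hc : Commute (QuotientGroup.mk' N a) (QuotientGroup.mk' N b) := by
            rw [Commute, SemiconjBy, ← commutatorElement_eq_one_iff_mul_comm,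
              ← map_commutatorElement]
            exact (QuotientGroup.eq_one_iff _).mpr (hBN a ha.1 b hb.1)
          refine (QuotientGroup.eq_one_iff _).mp ?_
          show QuotientGroup.mk' N ((a * b) ^ p) = 1
          rw [map_pow, map_mul, hc.mul_pow, ← map_pow, ← map_pow]
          show ((a ^ p : G) : G ⧸ N) * ((b ^ p : G) : G ⧸ N) = 1
          rw [(QuotientGroup.eq_one_iff _).mpr ha.2, (QuotientGroup.eq_one_iff _).mpr hb.2, one_mul]⟩
        inv_mem' := fun {a} ha => ⟨B.inv_mem ha.1, by rw [inv_pow]; exact N.inv_mem ha.2⟩ }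
    have hle : B ≤ S := by
      refine hgen S fun w hw g => ⟨hBn.conj_mem w hw.2 g, ?_⟩
      rw [conj_pow]
      exact hNn.conj_mem _ ⟨Z.pow_mem hw.1 p, hpF w hw.2⟩ g
    exact fun x hx => (hle hx).2
  have hNBc : ∀ n ∈ N, ∀ β ∈ B, Commute n β := fun n hn β hβ =>
    Subgroup.mem_centralizer_iff.mp (hNB hβ) n hn
  have hBB : ∀ x ∈ B, ∀ y ∈ B, ∀ z ∈ B, Commute ⁅x, y⁆ z := fun x hx y hy z hz =>
    hNBc _ (hBN x hx y hy) z hz
  have hBJ : ∀ x ∈ B, ∀ y ∈ B, ∀ C ∈ Modules.maxElemAbIn p (P : Subgroup G), ∀ a ∈ C,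
      Commute ⁅x, y⁆ a := fun x hx y hy C hC a ha =>
    centerThompsonOf_commute_max hC (hBN x hx y hy).1 ha
  have hcomp : ∀ x ∈ B, ∀ y ∈ B, ⁅x, y⁆ ^ p = 1 := by
    intro x hx y hy
    have h1 : Commute ⁅x, y⁆ y := hBB x hx y hy y hy
    have h2 : x * y * x⁻¹ = ⁅x, y⁆ * y := by simp [commutatorElement_def, mul_assoc]
    have h3 := congrArg (· ^ p) h2
    simp only [conj_pow, h1.mul_pow] at h3
    have h4 : x * y ^ p * x⁻¹ = y ^ p := by
      rw [← (hNBc _ (hBpN y hy) x hx).eq, mul_inv_cancel_right]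
    rw [h4] at h3
    exact mul_eq_right.mp h3.symm
  -- the stabilising subgroup
  set L := stabCore p B with hLdef
  haveI hLn : L.Normal := stabCore_normal B
  set PL := (P : Subgroup G) ⊓ L with hPL
  have hCW : Subgroup.centralizer (B : Set G) ≤ Subgroup.centralizer (W : Set G) :=
    Subgroup.centralizer_le inf_le_right
  have hfr : Subgroup.centralizer (B : Set G) ⊔ Subgroup.normalizer (PL : Set G) = ⊤ := by
    let Q : Sylow p L := (P.2.comap_subtype (K := L)).toSylow
      (show ¬ p ∣ ((P : Subgroup G).subgroupOf L).index from fun hd =>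
        Sylow.not_dvd_index P (hd.trans (PSolv.relIndex_dvd_index_of_normal_right (P : Subgroup G) L)))
    have hcomap : Subgroup.centralizer (B : Set G) ⊔ PL ≥ L := by
      have hle : ((Subgroup.centralizer (B : Set G) ⊔ PL).subgroupOf L) = ⊤ := by
        refine Transfer.eq_top_of_sylow_le Q (fun x hx => ?_) fun g hg => ?_
        · exact Subgroup.mem_sup_right (show (x : G) ∈ PL from ⟨hx, x.2⟩)
        · refine Subgroup.mem_sup_left ?_
          obtain ⟨n, hn⟩ := exists_pow_mem_centralizer (p := p) g.2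
          have hcop : Nat.Coprime (p ^ n) (orderOf (g : G)) := by
            rw [Subgroup.orderOf_coe]
            exact (Nat.Coprime.pow_right n hg).symm
          obtain ⟨m, hm⟩ := exists_pow_eq_self_of_coprime hcop
          show (g : G) ∈ Subgroup.centralizer (B : Set G)
          rw [← hm]
          exact pow_mem hn m
      exact fun x hx => Subgroup.subgroupOf_eq_top.mp hle hx
    have htop := Q.normalizer_sup_eq_top
    have hQ : (Q : Subgroup L).map L.subtype = PL := Subgroup.subgroupOf_map_subtype _ _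
    rw [hQ] at htop
    rw [eq_top_iff, ← htop]
    refine sup_le le_sup_right (hcomap.trans (sup_le le_sup_left ?_))
    exact Subgroup.le_normalizer.trans le_sup_right
  have hnormal : (∀ g ∈ Subgroup.normalizer (PL : Set G), g ∈ Subgroup.normalizer (W : Set G)) →
      W.Normal := by
    intro h
    rw [← Subgroup.normalizer_eq_top_iff, eq_top_iff, ← hfr]
    exact sup_le (hCW.trans (Subgroup.centralizer_le_normalizer _)) h
  by_cases hall : ∀ A ∈ Modules.maxElemAbIn p (P : Subgroup G), A ≤ L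
  · refine hnormal fun g hg => hNW g ?_
    have hJ : Cfsg.thompsonSubgroupOf p (P : Subgroup G) ≤ PL := by
      refine le_inf (Modules.thompsonSubgroupOf_le p _) ?_
      rw [Modules.thompsonSubgroupOf_eq_sSup]
      exact sSup_le hall
    have hJN := Modules.normalizer_le_normalizer_thompsonSubgroupOf p PL hg
    rw [Modules.thompsonSubgroupOf_eq_of_le inf_le_left hJ] at hJN
    exact Subgroup.mem_normalizer_iff.mpr fun y => by
      have hJN' : g ∈ Subgroup.normalizer
          (Subgroup.centralizer (Cfsg.thompsonSubgroupOf p (P : Subgroup G) : Set G) : Set G) :=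
        LocalEven.le_normalizer_centralizer hJN
      exact and_congr (Subgroup.mem_normalizer_iff.mp hJN y) (Subgroup.mem_normalizer_iff.mp hJN' y)
  exfalso
  obtain ⟨A, ⟨hA, hAL⟩, hAmax⟩ := Set.exists_max_image
    {A | A ∈ Modules.maxElemAbIn p (P : Subgroup G) ∧ ¬ A ≤ L}
    (fun A => Nat.card (A ⊓ B : Subgroup G)) (Set.toFinite _) (by
      push Not at hall
      obtain ⟨A, h1, h2⟩ := hall
      exact ⟨A, h1, h2⟩)
  have hquad : ∀ β ∈ B, ∀ a ∈ A, β ∈ Subgroup.normalizer (A : Set G) → ⁅⁅β, a⁆, a⁆ = 1 := by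
    intro β _ a ha hβ
    have h1 : ⁅β, a⁆ ∈ A := by
      simpa [commutatorElement_def, mul_assoc] using
        A.mul_mem ((Subgroup.mem_normalizer_iff.mp hβ a).mp ha) (A.inv_mem ha)
    exact commutatorElement_eq_one_iff_mul_comm.mpr (Modules.comm_iff.mp hA.2.1.1 _ h1 a ha)
  by_cases hBA : B ≤ Subgroup.normalizer (A : Set G)
  · exact hAL fun a ha => hst B hBp a (hA.1 ha) fun β hβ => hquad β hβ a ha (hBA hβ)
  obtain ⟨A', hA', hlt, hA'N⟩ := glauberman_replacement hp2 P.2 hBP hPB hBB hBJ hA hBA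
  have hA'L : A' ≤ L := by
    by_contra h
    exact absurd (hAmax A' ⟨hA', h⟩) (not_le.mpr (Set.ncard_lt_ncard hlt (Set.toFinite _)))
  have hA'PL : A' ≤ PL := le_inf hA'.1 hA'L
  have hBC : B ≤ Subgroup.centralizer (Cfsg.thompsonSubgroupOf p PL : Set G) := by
    have hWC : W ≤ Subgroup.centralizer (Cfsg.thompsonSubgroupOf p PL : Set G) := by
      intro w hw
      refine Subgroup.centralizer_le ?_ hw.1.2
      rw [Modules.thompsonSubgroupOf_eq_sSup, Modules.thompsonSubgroupOf_eq_sSup]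
      exact sSup_le fun C hC =>
        le_sSup ((Modules.maxElemAbIn_of_le inf_le_left hA' hA'PL C).mp hC).1
    refine hgen _ fun w hw g => ?_
    obtain ⟨c, hc, n, hn, rfl⟩ : g ∈ ((Subgroup.centralizer (B : Set G) : Subgroup G) : Set G) *
        ((Subgroup.normalizer (PL : Set G) : Subgroup G) : Set G) := by
      rw [← Subgroup.coe_mul_of_right_le_normalizer_left _ _ Subgroup.le_normalizer_of_normal, hfr]
      exact Subgroup.mem_top g
    have h1 : n * w * n⁻¹ ∈ B := hBn.conj_mem w hw.2 n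
    have h2 : c * n * w * (c * n)⁻¹ = n * w * n⁻¹ := by
      calc c * n * w * (c * n)⁻¹ = c * (n * w * n⁻¹) * c⁻¹ := by group
        _ = _ := by rw [← Subgroup.mem_centralizer_iff.mp hc _ h1, mul_inv_cancel_right]
    rw [h2]
    exact (Subgroup.mem_normalizer_iff.mp (LocalEven.le_normalizer_centralizer
      (Modules.normalizer_le_normalizer_thompsonSubgroupOf p PL hn)) w).mp (hWC hw)
  -- elements of order `p` of `B` lie in `A'`
  let Ω : Subgroup G :=
    { carrier := {x | x ∈ B ∧ x ^ p = 1}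
      one_mem' := ⟨one_mem _, one_pow p⟩
      mul_mem' := fun {x y} hx hy => ⟨B.mul_mem hx.1 hy.1,
        mul_pow_prime_eq_one hp2 hx.2 hy.2 (hBB y hy.1 x hx.1 x hx.1) (hBB y hy.1 x hx.1 y hy.1)
          (hcomp y hy.1 x hx.1)⟩
      inv_mem' := fun {x} hx => ⟨B.inv_mem hx.1, by rw [inv_pow, hx.2, inv_one]⟩ }
  haveI hΩn : Ω.Normal := ⟨fun x hx g => ⟨hBn.conj_mem x hx.1 g, by
    rw [conj_pow, hx.2, mul_one, mul_inv_cancel]⟩⟩
  have hΩA' : ∀ β ∈ Ω, β ∈ A' := fun β hβ =>
    Modules.mem_maxElemAbIn_of_centralizing hA' (hBP hβ.1)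
      (Subgroup.centralizer_le (Modules.le_thompsonSubgroupOf
        ((Modules.maxElemAbIn_of_le inf_le_left hA' hA'PL A').mpr ⟨hA', hA'PL⟩)) (hBC hβ.1)) hβ.2
  haveI hΩmap : (B.map (QuotientGroup.mk' Ω)).Normal :=
    hBn.map _ (QuotientGroup.mk'_surjective _)
  let K : Subgroup G :=
    (Subgroup.centralizer ((B.map (QuotientGroup.mk' Ω) : Subgroup (G ⧸ Ω)) : Set (G ⧸ Ω))).comap
      (QuotientGroup.mk' Ω)
  have hKmem : ∀ g, g ∈ K ↔ ∀ β ∈ B, ⁅g, β⁆ ∈ Ω := by
    intro g
    rw [Subgroup.mem_comap, Subgroup.mem_centralizer_iff]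
    constructor
    · intro h β hβ
      rw [← QuotientGroup.eq_one_iff]
      show QuotientGroup.mk' Ω ⁅g, β⁆ = 1
      rw [map_commutatorElement, commutatorElement_eq_one_iff_mul_comm]
      exact (h _ ⟨β, hβ, rfl⟩).symm
    · rintro h _ ⟨β, hβ, rfl⟩
      refine (commutatorElement_eq_one_iff_mul_comm.mp ?_).symm
      rw [← map_commutatorElement]
      exact (QuotientGroup.eq_one_iff _).mpr (h β hβ)
  haveI : (stabCore p Ω).Normal := stabCore_normal Ω
  have hKn : K.Normal := Subgroup.Normal.comap inferInstance _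
  refine hAL fun a ha => ?_
  refine le_stabCore_of_series (B := B) (V := Ω) (fun v hv => hv.2) (M := stabCore p Ω ⊓ K)
    inferInstance (fun g hg => exists_pow_mem_centralizer hg.1)
    (fun g hg => ⟨0, by simpa using (hKmem g).mp hg.2⟩) ⟨?_, (hKmem a).mpr fun β hβ => ?_⟩
  · exact hst Ω (hBp.to_le fun x hx => hx.1) a (hA.1 ha) fun β hβ =>
      hquad β hβ.1 a ha (hA'N (hΩA' β hβ))
  · have hβ' : a * β * a⁻¹ ∈ B := hBn.conj_mem β hβ a
    refine ⟨B.mul_mem hβ' (B.inv_mem hβ), ?_⟩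
    have haβ : a * β ^ p * a⁻¹ = β ^ p := by
      rw [← (centerThompsonOf_commute_max hA (hBpN β hβ).1 ha).eq, mul_inv_cancel_right]
    have hab : (a * β * a⁻¹) ^ p = β ^ p := by rw [conj_pow, haβ]
    show (a * β * a⁻¹ * β⁻¹) ^ p = 1
    let C : Subgroup G := Subgroup.centralizer ({⁅β⁻¹, a * β * a⁻¹⁆} : Set G)
    have hcB : ∀ z ∈ B, z ∈ C := fun z hz => Subgroup.mem_centralizer_singleton_iff.mpr
      (hBB _ (B.inv_mem hβ) _ hβ' z hz).eq.symm
    have h := PGroup.mul_pow_of_odd (x := (⟨_, hcB _ hβ'⟩ : C))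
      (y := (⟨_, hcB _ (B.inv_mem hβ)⟩ : C)) (n := p)
      ((Fact.out : p.Prime).odd_of_ne_two hp2)
      (Subgroup.mem_center_iff.mpr fun g =>
        Subtype.ext (Subgroup.mem_centralizer_singleton_iff.mp g.2))
      (Subtype.ext (hcomp _ (B.inv_mem hβ) _ hβ'))
    have h' : (a * β * a⁻¹ * β⁻¹) ^ p = (a * β * a⁻¹) ^ p * β⁻¹ ^ p := congrArg Subtype.val h
    rw [h', hab, inv_pow, mul_inv_cancel]

/-- **Glauberman's ZJ theorem** for the elementary abelian Thompson subgroup, full centre. -/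
theorem centerThompsonOf_normal (hp2 : p ≠ 2)
    (hc : Subgroup.centralizer (Cfsg.pCore p G : Set G) ≤ Cfsg.pCore p G) (P : Sylow p G)
    (hst : ZJStable p (P : Subgroup G)) :
    (Cfsg.centerThompsonOf p (P : Subgroup G)).Normal := by
  set Z := Cfsg.centerThompsonOf p (P : Subgroup G)
  set H := Cfsg.pCore p G with hH
  have hHn : H.Normal := by
    have := PSolv.pCore_characteristic p G
    infer_instance
  have hD : stabCore p H ≤ H := by
    refine PSolv.le_pCore (stabCore_normal H) fun g => ?_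
    obtain ⟨n, hn⟩ := exists_pow_mem_centralizer (p := p) g.2
    obtain ⟨m, hm⟩ := PSolv.isPGroup_pCore p G ⟨_, hc hn⟩
    refine ⟨n + m, Subtype.ext ?_⟩
    rw [Subgroup.coe_pow, pow_add, pow_mul]
    exact congrArg Subtype.val hm
  have hZH : Z ≤ H := by
    intro z hz
    refine hD (hst H (PSolv.isPGroup_pCore p G) z (Modules.centerThompsonOf_le p _ hz) fun β hβ => ?_)
    have h1 : ⁅β, z⁆ ∈ Z := by
      have h2 : β * z * β⁻¹ ∈ Z := (Subgroup.mem_normalizer_iff.mp
        (Modules.normalizer_le_normalizer_centerThompsonOf p _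
          (Subgroup.le_normalizer (PSolv.pCore_le_sylow P hβ))) z).mp hz
      exact Z.mul_mem h2 (Z.inv_mem hz)
    exact commutatorElement_eq_one_iff_mul_comm.mpr
      (Modules.comm_iff.mp (Modules.centerThompsonOf_comm p _) _ h1 z hz)
  have h := centerThompson_inf_normal hp2 P hst H hHn (PSolv.isPGroup_pCore p G)
  rwa [inf_eq_left.mpr hZH] at h

end Cfsg.Agent.H4
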