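import Cfsg.Agent.Modules.Thompson
import Cfsg.Agent.PGroup.ClassTwo
import Mathlib.Algebra.Group.Subgroup.Pointwise
import Mathlib.GroupTheory.Nilpotent

/-!
Glauberman's replacement theorem for elementary abelian subgroups of largest order, odd `p`.
-/

set_option autoImplicit false

open scoped commutatorElement Pointwise

namespace Cfsg.Agent.H4

variable {G : Type*} [Group G] [Finite G] {p : ℕ} [Fact p.Prime]

/-- A p-power of a product with commutator central for both factors, odd p. -/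
theorem mul_pow_prime_eq_one {v w : G} (hp2 : p ≠ 2) (hv : v ^ p = 1) (hw : w ^ p = 1)
    (h1 : Commute ⁅w, v⁆ v) (h2 : Commute ⁅w, v⁆ w) (h3 : ⁅w, v⁆ ^ p = 1) : (v * w) ^ p = 1 := by
  let C : Subgroup G := Subgroup.centralizer ({⁅w, v⁆} : Set G)
  let v' : C := ⟨v, Subgroup.mem_centralizer_singleton_iff.mpr h1.eq.symm⟩
  let w' : C := ⟨w, Subgroup.mem_centralizer_singleton_iff.mpr h2.eq.symm⟩
  have hc : ⁅w', v'⁆ ∈ Subgroup.center C := Subgroup.mem_center_iff.mpr fun g =>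
    Subtype.ext (Subgroup.mem_centralizer_singleton_iff.mp g.2)
  have h := PGroup.mul_pow_of_odd (x := v') (y := w') (n := p)
    ((Fact.out : p.Prime).odd_of_ne_two hp2) hc (Subtype.ext h3)
  have h' : (v * w) ^ p = v ^ p * w ^ p := congrArg Subtype.val h
  rw [h', hv, hw, one_mul]

/-- A proper subgroup of a `p`-subgroup `P` not containing `B` has normaliser meeting `B` outside. -/
theorem exists_mem_normalizer_not_mem {P B M : Subgroup G} (hP : IsPGroup p P) (hBP : B ≤ P)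
    (hMP : M ≤ P) (hMB : M ≤ Subgroup.normalizer (B : Set G)) (hnot : ¬ B ≤ M) :
    ∃ b ∈ B, b ∈ Subgroup.normalizer (M : Set G) ∧ b ∉ M := by
  set S := B ⊔ M
  have hSp : IsPGroup p S := hP.to_le (sup_le hBP hMP)
  haveI : Group.IsNilpotent S := hSp.isNilpotent
  have hne : M.subgroupOf S ≠ ⊤ := fun h =>
    hnot ((le_sup_left : B ≤ S).trans (Subgroup.subgroupOf_eq_top.mp h))
  obtain ⟨g, hg, hgM⟩ := SetLike.exists_of_lt
    (Group.normalizerCondition_of_isNilpotent (G := S) (M.subgroupOf S) (lt_top_iff_ne_top.mpr hne))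
  obtain ⟨β, hβ, m, hm, hg'⟩ : (g : G) ∈ ((B : Set G) * (M : Set G)) := by
    rw [← Subgroup.coe_mul_of_right_le_normalizer_left B M hMB]
    exact g.2
  refine ⟨β, hβ, ?_, fun h => hgM ?_⟩
  · have h1 : (g : G) ∈ Subgroup.normalizer (M : Set G) := Subgroup.mem_normalizer_iff.mpr fun y =>
      ⟨fun hy => (Subgroup.mem_normalizer_iff.mp hg ⟨y, Subgroup.mem_sup_right hy⟩).mp hy, fun hy => by
        have hyS : y ∈ S := by
          have h2 := S.mul_mem (S.mul_mem (S.inv_mem g.2) (Subgroup.mem_sup_right hy)) g.2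
          simpa [mul_assoc] using h2
        exact (Subgroup.mem_normalizer_iff.mp hg ⟨y, hyS⟩).mpr hy⟩
    have h2 : β = (g : G) * m⁻¹ := by rw [← hg']; simp
    rw [h2]
    exact mul_mem h1 (inv_mem (Subgroup.le_normalizer hm))
  · show (g : G) ∈ M
    rw [← hg']
    exact mul_mem h hm

/-- **Glauberman replacement**, elementary abelian subgroups of largest order. -/
theorem glauberman_replacement (hp2 : p ≠ 2) {P B A : Subgroup G} (hP : IsPGroup p P)
    (hBP : B ≤ P) (hPB : P ≤ Subgroup.normalizer (B : Set G))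
    (hBB : ∀ x ∈ B, ∀ y ∈ B, ∀ z ∈ B, Commute ⁅x, y⁆ z)
    (hBJ : ∀ x ∈ B, ∀ y ∈ B, ∀ C ∈ Modules.maxElemAbIn p P, ∀ a ∈ C, Commute ⁅x, y⁆ a)
    (hA : A ∈ Modules.maxElemAbIn p P) (hn : ¬ B ≤ Subgroup.normalizer (A : Set G)) :
    ∃ A' ∈ Modules.maxElemAbIn p P, A ⊓ B < A' ⊓ B ∧
      A' ≤ Subgroup.normalizer (A : Set G) := by
  classical
  have hAc : ∀ x ∈ A, ∀ y ∈ A, x * y = y * x := Modules.comm_iff.mp hA.2.1.1
  obtain ⟨b, hbB, hbM, hbnM⟩ := exists_mem_normalizer_not_mem (p := p)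
    (M := Subgroup.normalizer (A : Set G) ⊓ P) hP hBP inf_le_right (inf_le_right.trans hPB)
    (fun h => hn (h.trans inf_le_left))
  have hbP : b ∈ P := hBP hbB
  have hbA : b ∉ Subgroup.normalizer (A : Set G) := fun h => hbnM ⟨h, hbP⟩
  let c : G ≃* G := MulAut.conj b⁻¹
  have hcv : ∀ y, c y = b⁻¹ * y * b := fun y => by simp [c]
  have hAM : ∀ x ∈ A, x ∈ Subgroup.normalizer (A : Set G) ⊓ P := fun x hx =>
    ⟨Subgroup.le_normalizer hx, hA.1 hx⟩
  have hcM : ∀ y ∈ Subgroup.normalizer (A : Set G) ⊓ P,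
      c y ∈ Subgroup.normalizer (A : Set G) ⊓ P := fun y hy => by
    rw [hcv]
    exact (Subgroup.mem_normalizer_iff''.mp hbM y).mp hy
  -- the conjugate
  set A1 := A.map c.toMonoidHom with hA1
  have hA1m : A1 ∈ Modules.maxElemAbIn p P := by
    refine ⟨?_, Modules.elemAb_map _ hA.2.1, fun C hC hCe => ?_⟩
    · rintro _ ⟨x, hx, rfl⟩
      exact (hcM x (hAM x hx)).2
    · rw [hA1, Subgroup.card_map_of_injective c.injective]
      exact hA.2.2 C hC hCe
  have hA1c : ∀ x ∈ A, ∀ y ∈ A, c x * c y = c y * c x := fun x hx y hy => by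
    rw [← map_mul, ← map_mul, hAc x hx y hy]
  -- the commutator form
  let T : G → G → G := fun x y => ⁅x, c y⁆
  have hTA : ∀ x ∈ A, ∀ y ∈ A, T x y ∈ A ∧ T x y ∈ A1 := by
    intro x hx y hy
    constructor
    · have h1 := (Subgroup.mem_normalizer_iff.mp (hcM y (hAM y hy)).1 x⁻¹).mp (inv_mem hx)
      simpa [T, commutatorElement_def, mul_assoc] using mul_mem hx h1
    · have hx' : b * x * b⁻¹ ∈ Subgroup.normalizer (A : Set G) :=
        ((Subgroup.mem_normalizer_iff.mp hbM x).mp (hAM x hx)).1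
      have h1 : x * c y * x⁻¹ ∈ A1 :=
        ⟨(b * x * b⁻¹) * y * (b * x * b⁻¹)⁻¹, (Subgroup.mem_normalizer_iff.mp hx' y).mp hy,
          by simp [c, mul_assoc]⟩
      simpa [T, commutatorElement_def] using A1.mul_mem h1 (inv_mem ⟨y, hy, rfl⟩)
  have hTc : ∀ x ∈ A, ∀ y ∈ A, ∀ z ∈ A, Commute (T x y) z ∧ Commute (T x y) (c z) := by
    intro x hx y hy z hz
    refine ⟨hAc _ (hTA x hx y hy).1 z hz, ?_⟩
    obtain ⟨w, hw, hw'⟩ := (hTA x hx y hy).2
    rw [← hw']
    exact hA1c w hw z hz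
  -- elements u
  let u : G → G := fun x => x⁻¹ * c x
  have huB : ∀ x ∈ A, u x ∈ B := by
    intro x hx
    have h1 : x⁻¹ * b⁻¹ * x ∈ B := by
      have := (Subgroup.mem_normalizer_iff''.mp (hPB (hA.1 hx)) b⁻¹).mp (inv_mem hbB)
      simpa [mul_assoc] using this
    simpa [u, hcv, mul_assoc] using B.mul_mem h1 hbB
  -- symmetry
  have hswap : ∀ x ∈ A, ∀ y ∈ A, c (T x y) = T y x := by
    intro x hx y hy
    set d := (u y)⁻¹ * c (u y) with hd
    have hdeq : d = ⁅(u y)⁻¹, b⁻¹⁆ := by simp [hd, hcv, commutatorElement_def, mul_assoc]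
    have hdx : Commute d x := hdeq ▸ hBJ _ (inv_mem (huB y hy)) _ (inv_mem hbB) A hA x hx
    have hdcx : Commute d (c x) :=
      hdeq ▸ hBJ _ (inv_mem (huB y hy)) _ (inv_mem hbB) A1 hA1m (c x) ⟨x, hx, rfl⟩
    have hccy : c (c y) = c y * y⁻¹ * c y * d := by
      simp only [hd, u, map_mul, map_inv, mul_inv_rev, inv_inv]
      group
    have hcom : c x * c y = c y * c x := hA1c x hx y hy
    have hyx : c x * y⁻¹ = T y x * (y⁻¹ * c x) := by
      have h1 : Commute (T y x) y⁻¹ := (hTc y hy x hx y hy).1.inv_right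
      rw [← mul_assoc, h1.eq]
      simp [T, commutatorElement_def, mul_assoc]
    have h2 : Commute (T y x) (c y) := (hTc y hy x hx y hy).2
    show c ⁅x, c y⁆ = T y x
    rw [map_commutatorElement, hccy, commutatorElement_def]
    calc c x * (c y * y⁻¹ * c y * d) * (c x)⁻¹ * (c y * y⁻¹ * c y * d)⁻¹
        = (c x * c y) * y⁻¹ * c y * (d * (c x)⁻¹) * (c y * y⁻¹ * c y * d)⁻¹ := by group
      _ = c y * (c x * y⁻¹) * c y * ((c x)⁻¹ * d) * (c y * y⁻¹ * c y * d)⁻¹ := by
          rw [hcom, hdcx.inv_right.eq]; group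
      _ = (c y * T y x) * y⁻¹ * (c x * c y) * (c x)⁻¹ * d * (c y * y⁻¹ * c y * d)⁻¹ := by
          rw [hyx]; group
      _ = (T y x * c y) * y⁻¹ * (c y * c x) * (c x)⁻¹ * d * (c y * y⁻¹ * c y * d)⁻¹ := by
          rw [hcom, h2.eq]
      _ = T y x := by group
  have hbodd : ∀ z, c (c z) = z → c z = z := by
    intro z hz
    have hcop : Nat.Coprime 2 (orderOf b) := by
      obtain ⟨k, hk⟩ := IsPGroup.iff_orderOf.mp hP ⟨b, hbP⟩
      rw [Subgroup.orderOf_mk] at hk
      rw [hk]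
      exact Nat.Coprime.pow_right k ((Nat.coprime_primes Nat.prime_two Fact.out).mpr (Ne.symm hp2))
    obtain ⟨m, hm⟩ := exists_pow_eq_self_of_coprime hcop
    have h1 : Commute (b ^ 2) z := by
      rw [hcv, hcv] at hz
      have h3 : b ^ 2 * z = b ^ 2 * (b⁻¹ * (b⁻¹ * z * b) * b) := by rw [hz]
      exact h3.trans (by rw [pow_two]; group)
    have h2 : Commute b z := hm ▸ h1.pow_left m
    rw [hcv, mul_assoc, ← h2.eq, inv_mul_cancel_left]
  have hsym : ∀ x ∈ A, ∀ y ∈ A, T x y = T y x := by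
    intro x hx y hy
    have h1 := hbodd _ (by rw [hswap x hx y hy, hswap y hy x hx] : c (c (T x y)) = T x y)
    rw [← hswap x hx y hy, h1]
  have hyx : ∀ x ∈ A, ∀ y ∈ A, c x * y⁻¹ = T y x * (y⁻¹ * c x) := by
    intro x hx y hy
    have h1 : Commute (T y x) y⁻¹ := (hTc y hy x hx y hy).1.inv_right
    rw [← mul_assoc, h1.eq]
    simp [T, commutatorElement_def, mul_assoc]
  have hucomm : ∀ x ∈ A, ∀ y ∈ A, u x * u y = u y * u x := by
    intro x hx y hy
    have e1 : ∀ x ∈ A, ∀ y ∈ A, u x * u y = T y x * (x⁻¹ * y⁻¹ * (c x * c y)) := by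
      intro x hx y hy
      have h1 : Commute x⁻¹ (T y x) := (hTc y hy x hx x hx).1.symm.inv_left
      calc u x * u y = x⁻¹ * (c x * y⁻¹) * c y := by simp [u, mul_assoc]
        _ = (x⁻¹ * T y x) * (y⁻¹ * c x * c y) := by rw [hyx x hx y hy]; group
        _ = _ := by rw [h1.eq]; group
    have hinv : x⁻¹ * y⁻¹ = y⁻¹ * x⁻¹ := by rw [← mul_inv_rev, ← mul_inv_rev, hAc x hx y hy]
    rw [e1 x hx y hy, e1 y hy x hx, hsym x hx y hy, hA1c x hx y hy, hinv]
  have hupow : ∀ x ∈ A, u x ^ p = 1 := by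
    intro x hx
    have hxp : x ^ p = 1 := hA.2.1.2 x hx
    have he : ⁅c x, x⁻¹⁆ = T x x := by
      rw [commutatorElement_def, hyx x hx x hx]; group
    refine mul_pow_prime_eq_one hp2 (by rw [inv_pow, hxp, inv_one])
      (by rw [← map_pow, hxp, map_one]) ?_ ?_ ?_ <;> rw [he]
    · exact (hTc x hx x hx x hx).1.inv_right
    · exact (hTc x hx x hx x hx).2
    · exact hA.2.1.2 _ (hTA x hx x hx).1
  -- the new subgroup
  set D := A ⊓ A1 with hD
  have hDu : ∀ d ∈ D, ∀ x ∈ A, d * u x = u x * d := by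
    rintro d ⟨hdA, ⟨w, hw, rfl⟩⟩ x hx
    have h1 : Commute (c w) x⁻¹ := (show Commute (c w) x from hAc _ hdA x hx).inv_right
    exact (h1.mul_right (show Commute (c w) (c x) from hA1c w hw x hx)).eq
  set S : Set G := (D : Set G) ∪ u '' (A : Set G)
  have hScomm : ∀ s ∈ S, ∀ t ∈ S, s * t = t * s := by
    rintro s (hs | ⟨x, hx, rfl⟩) t (ht | ⟨y, hy, rfl⟩)
    · exact hAc s hs.1 t ht.1
    · exact hDu s hs y hy
    · exact (hDu t ht x hx).symm
    · exact hucomm x hx y hy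
  set A' := Subgroup.closure S with hA'
  haveI hA'c : IsMulCommutative A' := Subgroup.isMulCommutative_closure hScomm
  have hA'comm := Modules.comm_iff.mp hA'c
  have hA'e : Cfsg.IsElementaryAbelian p A' := by
    refine ⟨hA'c, fun z hz => ?_⟩
    induction hz using Subgroup.closure_induction with
    | mem s hs =>
      rcases hs with hs | ⟨x, hx, rfl⟩
      · exact hA.2.1.2 s hs.1
      · exact hupow x hx
    | one => exact one_pow p
    | mul s t hs ht ihs iht =>
      rw [(show Commute s t from hA'comm s hs t ht).mul_pow, ihs, iht, one_mul]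
    | inv s hs ihs => rw [inv_pow, ihs, inv_one]
  have hA'N : A' ≤ Subgroup.normalizer (A : Set G) ⊓ P := by
    rw [hA', Subgroup.closure_le]
    rintro s (hs | ⟨x, hx, rfl⟩)
    · exact hAM s hs.1
    · exact mul_mem (inv_mem (hAM x hx)) (hcM x (hAM x hx))
  -- cardinality
  have hDA' : ∀ d ∈ D, d ∈ A' := fun d hd => Subgroup.subset_closure (Or.inl hd)
  have huA' : ∀ x ∈ A, u x ∈ A' := fun x hx => Subgroup.subset_closure (Or.inr ⟨x, hx, rfl⟩)
  let f : A → G ⧸ D := fun x => QuotientGroup.mk (u x)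
  let r : A → A := fun x => Classical.choose (⟨x, rfl⟩ : ∃ z, f z = f x)
  have hr : ∀ x, f (r x) = f x := fun x => Classical.choose_spec (⟨x, rfl⟩ : ∃ z, f z = f x)
  have hr' : ∀ x y, f x = f y → r x = r y := fun x y h => by
    simp only [r]; congr 1; funext z; rw [h]
  have hfib : ∀ x y : A, f x = f y → c ((x : G) * (y : G)⁻¹) ∈ D := by
    intro x y h
    have h1 : (u x)⁻¹ * u y ∈ D := QuotientGroup.eq.mp h
    set w : G := (x : G) * (y : G)⁻¹ with hw
    have hwA : w ∈ A := A.mul_mem x.2 (A.inv_mem y.2)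
    set t := T w x with htdef
    have hxw : (c x)⁻¹ * w = w * (c x)⁻¹ * t := by
      have h3 : Commute t (c x) := (hTc w hwA x x.2 x x.2).2
      have h4 : Commute w t := (hTc w hwA x x.2 w hwA).1.symm
      calc (c x)⁻¹ * w = (c x)⁻¹ * (t * c x) * w * (c x)⁻¹ := by
            simp [htdef, T, commutatorElement_def, mul_assoc]
        _ = (t * w) * (c x)⁻¹ := by rw [h3.eq]; group
        _ = (w * t) * (c x)⁻¹ := by rw [h4.eq]
        _ = w * ((c x)⁻¹ * t) := by rw [mul_assoc, h3.inv_right.eq]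
        _ = _ := by group
    have h2 : (u x)⁻¹ * u y = w * (t * (c w)⁻¹) := by
      have hcw : c w = c x * (c y)⁻¹ := by rw [hw, map_mul, map_inv]
      have hcom : (c x)⁻¹ * c y = (c w)⁻¹ := by
        rw [hcw, mul_inv_rev, inv_inv]
        exact ((show Commute (c x) (c y) from hA1c x x.2 y y.2).inv_left).eq
      have h3 : Commute t (c x)⁻¹ := (hTc w hwA x x.2 x x.2).2.inv_right
      calc (u x)⁻¹ * u y = ((c x)⁻¹ * w) * c y := by simp [u, hw, mul_assoc]
        _ = w * ((c x)⁻¹ * t) * c y := by rw [hxw]; group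
        _ = w * (t * ((c x)⁻¹ * c y)) := by rw [← h3.eq]; group
        _ = _ := by rw [hcom]
    rw [h2] at h1
    have h5 : t * (c w)⁻¹ ∈ A := (A.mul_mem_cancel_left hwA).mp h1.1
    have h6 : (c w)⁻¹ ∈ A := (A.mul_mem_cancel_left (hTA w hwA x x.2).1).mp h5
    exact ⟨(Subgroup.inv_mem_iff A).mp h6, ⟨w, hwA, rfl⟩⟩
  let Φ : A → A' := fun x =>
    ⟨u (r x) * c ((x : G) * ((r x : A) : G)⁻¹),
      mul_mem (huA' _ (r x).2) (hDA' _ (hfib x (r x) (hr x).symm))⟩
  have hΦ : Function.Injective Φ := by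
    intro x y hxy
    have h := congrArg (fun z : A' => (QuotientGroup.mk (z : G) : G ⧸ D)) hxy
    simp only [Φ, QuotientGroup.mk_mul_of_mem _ (hfib x (r x) (hr x).symm),
      QuotientGroup.mk_mul_of_mem _ (hfib y (r y) (hr y).symm)] at h
    have hr2 : r x = r y := hr' x y ((hr x).symm.trans (h.trans (hr y)))
    have h' := congrArg Subtype.val hxy
    simp only [Φ, hr2, mul_right_inj, EmbeddingLike.apply_eq_iff_eq, mul_left_inj] at h'
    exact Subtype.ext h'
  have hA'P : A' ≤ P := hA'N.trans inf_le_right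
  refine ⟨A', ⟨hA'P, hA'e, fun C hC hCe => (hA.2.2 C hC hCe).trans
    (Nat.card_le_card_of_injective Φ hΦ)⟩, ?_, hA'N.trans inf_le_left⟩
  -- intersection with B
  refine lt_of_le_of_ne (fun z hz => ⟨?_, hz.2⟩) fun he => ?_
  · have he1 : u z ∈ A := by
      have h1 : u z = ⁅z⁻¹, b⁻¹⁆ := by simp [u, hcv, commutatorElement_def, mul_assoc]
      refine Modules.mem_maxElemAbIn_of_centralizing hA (hBP (huB z hz.1)) ?_ (hupow z hz.1)
      rw [Subgroup.mem_centralizer_iff]
      intro a ha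
      rw [h1]
      exact (hBJ _ (inv_mem hz.2) _ (inv_mem hbB) A hA a ha).eq.symm
    have he2 : c (u z) = u z := by
      have h1 : u z = ⁅z⁻¹, b⁻¹⁆ := by simp [u, hcv, commutatorElement_def, mul_assoc]
      have h2 : Commute (u z) b := h1 ▸ hBB _ (inv_mem hz.2) _ (inv_mem hbB) b hbB
      rw [hcv, mul_assoc, h2.eq, inv_mul_cancel_left]
    refine hDA' z ⟨hz.1, ?_⟩
    have h3 : z = c z * (u z)⁻¹ := by
      have h4 : Commute z (u z) := hAc z hz.1 _ he1
      calc z = (u z)⁻¹ * (z * u z) * (u z)⁻¹ * u z := by rw [h4.eq]; group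
        _ = _ := by
          have h5 : z * u z = c z := by simp [u]
          have h6 : Commute (u z)⁻¹ (z * u z) := (h4.symm.mul_right (Commute.refl _)).inv_left
          rw [h6.eq, h5]; group
    rw [h3]
    exact A1.mul_mem ⟨z, hz.1, rfl⟩ (inv_mem ⟨u z, he1, he2⟩)
  · obtain ⟨x, hx, hcx⟩ : ∃ x ∈ A, c x ∉ A := by
      by_contra hc
      push Not at hc
      refine hbA ?_
      have hle : A1 ≤ A := by
        rintro _ ⟨x, hx, rfl⟩
        exact hc x hx
      have heq : A1 = A := Subgroup.eq_of_le_of_card_ge hle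
        (Subgroup.card_map_of_injective c.injective).ge
      have h1 : b⁻¹ ∈ Subgroup.normalizer (A : Set G) :=
        Subgroup.mem_normalizer_iff_map_conj_eq.mpr heq
      simpa using inv_mem h1
    have h1 : u x ∈ A ⊓ B := he ▸ ⟨huA' x hx, huB x hx⟩
    exact hcx (by simpa [u] using A.mul_mem hx h1.1)

end Cfsg.Agent.H4
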