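import Cfsg.Agent.H4.ZJ
import Cfsg.Agent.H4.ThompsonNPC

/-!
The Glauberman–Thompson normal p-complement theorem.
-/

set_option autoImplicit false

open scoped commutatorElement

namespace Cfsg.Agent.H4

universe u

variable {p : ℕ} [Fact p.Prime]

omit [Fact p.Prime] in
theorem stabCore_eq_top_of_bot {X : Type*} [Group X] (B : Subgroup X) [B.Normal] (hB : B = ⊥)
    (x : X) : x ∈ stabCore p B := by
  refine centralizer_le_stabCore B (Subgroup.mem_centralizer_iff.mpr fun y hy => ?_)
  rw [SetLike.mem_coe, hB, Subgroup.mem_bot] at hy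
  rw [hy, one_mul, mul_one]

/-- Quadratic elements against abelian `p'`-groups of operators on a normal `p`-subgroup. -/
theorem commutator_mem_stabCore (hp2 : p ≠ 2) (n : ℕ) :
    ∀ {X : Type u} [Group X] [Finite X] (H K : Subgroup X) [H.Normal], IsPGroup p H →
      ⁅K, K⁆ ≤ H → ∀ m : ℕ, m ≠ 0 → m.Coprime p → (∀ x ∈ K, x ^ m ∈ H) →
      ∀ a ∈ Subgroup.normalizer (K : Set X), ∀ (B : Subgroup X) [B.Normal], Nat.card B ≤ n →
        B ≤ H → (∀ β ∈ B, ⁅⁅β, a⁆, a⁆ = 1) → ∀ k ∈ K, ⁅a, k⁆ ∈ stabCore p B := by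
  induction n with
  | zero =>
    intro X _ _ H K _ _ _ m _ _ _ a _ B _ hcard _ _ k _
    exact absurd hcard (not_le.mpr Nat.card_pos)
  | succ n ih =>
    intro X _ _ H K _ hH hKK m hm0 hm hKm a ha B _ hcard hBH hquad k hk
    rcases eq_or_ne B ⊥ with hB | hB
    · exact stabCore_eq_top_of_bot B hB _
    set V := Cfsg.omegaOne p (B ⊓ Subgroup.centralizer (H : Set X)) with hVdef
    have hVle : V ≤ B ⊓ Subgroup.centralizer (H : Set X) := Modules.omegaOne_le p _
    haveI hVn : V.Normal := by
      rw [← Subgroup.normalizer_eq_top_iff, eq_top_iff]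
      exact (Subgroup.normalizer_eq_top (H := B ⊓ Subgroup.centralizer (H : Set X))).ge.trans
        (Modules.normalizer_le_normalizer_omegaOne p _)
    have hBcomm : IsMulCommutative ↥(B ⊓ Subgroup.centralizer (H : Set X)) :=
      Modules.comm_iff.mpr fun x hx y hy => Subgroup.mem_centralizer_iff.mp hy.2 x (hBH hx.1)
    have hVe : Cfsg.IsElementaryAbelian p V := Modules.elemAb_omegaOne hBcomm
    have hVne : V ≠ ⊥ := by
      haveI : (B.subgroupOf H).Normal := inferInstance
      have h1 := PGroup.inf_center_ne_bot hH (B.subgroupOf H)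
        (fun h => hB (by
          rw [← Subgroup.subgroupOf_map_subtype B H |>.trans (inf_eq_left.mpr hBH), h,
            Subgroup.map_bot]))
      obtain ⟨⟨x, hxH⟩, hx, hxne⟩ := Subgroup.bot_or_exists_ne_one _ |>.resolve_left h1
      have hxB : x ∈ B ⊓ Subgroup.centralizer (H : Set X) :=
        ⟨hx.1, Subgroup.mem_centralizer_iff.mpr fun y hy =>
          congrArg Subtype.val (Subgroup.mem_center_iff.mp hx.2 ⟨y, hy⟩)⟩
      obtain ⟨j, hj⟩ := IsPGroup.iff_orderOf.mp hH ⟨x, hxH⟩
      rw [Subgroup.orderOf_mk] at hj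
      obtain ⟨i, rfl⟩ : ∃ i, j = i + 1 := by
        refine ⟨j - 1, ?_⟩
        rcases Nat.eq_zero_or_pos j with rfl | h
        · exact absurd (Subtype.ext (orderOf_eq_one_iff.mp (by simpa using hj))) hxne
        · omega
      intro hV
      have h2 : x ^ p ^ i ∈ V := Modules.mem_omegaOne_of_pow (Subgroup.pow_mem _ hxB _)
        (by rw [← pow_mul, ← pow_succ, ← hj, pow_orderOf_eq_one])
      rw [hV, Subgroup.mem_bot] at h2
      have h3 := orderOf_dvd_of_pow_eq_one h2
      rw [hj, Nat.pow_dvd_pow_iff_le_right (Fact.out : p.Prime).one_lt] at h3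
      omega
    have hHV : H ≤ Subgroup.centralizer (V : Set X) :=
      Subgroup.le_centralizer_iff.mpr (hVle.trans inf_le_right)
    have hcent : ⁅a, k⁆ ∈ Subgroup.centralizer (V : Set X) := by
      refine quadratic_centralizes hp2 V hVe.1 hVe.2 (a := a) ?_ K ?_ hm0 hm ?_ ha hk
      · intro v hv
        have h1 := commutatorElement_eq_one_iff_mul_comm.mp (hquad v (hVle hv).1)
        rw [commutatorElement_eq_one_iff_mul_comm, ← commutatorElement_inv v a]
        exact (Commute.inv_right (show Commute a ⁅v, a⁆ from h1.symm)).eq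
      · exact fun x hx y hy => hHV (hKK (Subgroup.commutator_mem_commutator hx hy))
      · exact fun x hx => hHV (hKm x hx)
    set π := QuotientGroup.mk' V with hπ
    have hsurj : Function.Surjective π := QuotientGroup.mk'_surjective V
    haveI : (H.map π).Normal := Subgroup.Normal.map inferInstance _ hsurj
    haveI : (B.map π).Normal := Subgroup.Normal.map inferInstance _ hsurj
    have hcard' : Nat.card (B.map π) ≤ n := by
      rw [hπ, PSolv.card_map_mk_eq_relIndex]
      have h1 := Subgroup.relIndex_mul_relIndex ⊥ V B bot_le (hVle.trans inf_le_left)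
      rw [Subgroup.relIndex_bot_left, Subgroup.relIndex_bot_left] at h1
      have h2 : 2 ≤ Nat.card V := V.one_lt_card_iff_ne_bot.mpr hVne
      have h3 : 2 * V.relIndex B ≤ n + 1 := (Nat.mul_le_mul_right _ h2).trans (h1.le.trans hcard)
      omega
    have hrec := ih (H.map π) (K.map π) (hH.map π)
      (by rw [← Subgroup.map_commutator]; exact Subgroup.map_mono hKK) m hm0 hm
      (by rintro _ ⟨x, hx, rfl⟩; exact ⟨x ^ m, hKm x hx, map_pow π x m⟩)
      (π a) (Subgroup.le_normalizer_map π ⟨a, ha, rfl⟩) (B.map π) hcard' (Subgroup.map_mono hBH)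
      (by rintro _ ⟨β, hβ, rfl⟩; rw [← map_commutatorElement, ← map_commutatorElement, hquad β hβ,
        map_one]) (π k) ⟨k, hk, rfl⟩
    rw [← map_commutatorElement] at hrec
    haveI : (stabCore p (B.map π)).Normal := stabCore_normal _
    refine le_stabCore_of_series (B := B) (V := V) hVe.2
      (M := (stabCore p (B.map π)).comap π ⊓ Subgroup.centralizer (V : Set X)) inferInstance
      (fun g hg => ⟨0, by simpa using hg.2⟩) (fun g hg => ?_) ⟨hrec, hcent⟩
    obtain ⟨j, hj⟩ := exists_pow_mem_centralizer (p := p) (B := B.map π) hg.1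
    refine ⟨j, fun β hβ => (QuotientGroup.eq_one_iff _).mp ?_⟩
    show π ⁅g ^ p ^ j, β⁆ = 1
    rw [map_commutatorElement, map_pow, commutatorElement_eq_one_iff_mul_comm]
    exact (Subgroup.mem_centralizer_iff.mp hj (π β) ⟨β, hβ, rfl⟩).symm

/-- In the reduced case the action on normal `p`-subgroups is stable. -/
theorem ReducedCase.zjStable {F : PFunctor'.{u} p} {c : Prop} (hp2 : p ≠ 2) {X : Type u} [Group X]
    [Finite X] {P : Sylow p X} {K : Subgroup X} (h : ReducedCase F c P K) :
    ZJStable p (P : Subgroup X) := by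
  intro B _ hB a ha hquad
  set H := Cfsg.pCore p X with hH
  haveI := h.normal
  haveI hHn : H.Normal := by
    have := PSolv.pCore_characteristic p X
    infer_instance
  have hHp : IsPGroup p H := PSolv.isPGroup_pCore p X
  have hBH : B ≤ H := PSolv.le_pCore ‹_› hB
  have hD : (stabCore p B).Normal := stabCore_normal B
  have hHD : H ≤ stabCore p B := le_stabCore hHn fun g hg => by
    obtain ⟨j, hj⟩ := hHp ⟨g, hg⟩
    refine ⟨j, ?_⟩
    rw [show g ^ p ^ j = 1 from congrArg Subtype.val hj]
    exact one_mem _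
  by_cases hKD : K ≤ stabCore p B
  · refine le_stabCore (inferInstance : (⊤ : Subgroup X).Normal) (fun g _ => ?_) (Subgroup.mem_top a)
    obtain ⟨d, hd, s, hs, rfl⟩ := Subgroup.mem_sup_of_normal_left.mp
      (h.sup_sylow.symm ▸ Subgroup.mem_top g : g ∈ K ⊔ (P : Subgroup X))
    obtain ⟨j, hj⟩ := P.2 ⟨s, hs⟩
    have hsj : s ^ p ^ j = 1 := congrArg Subtype.val hj
    have h1 : (d * s) ^ p ^ j ∈ stabCore p B := by
      rw [← QuotientGroup.eq_one_iff, QuotientGroup.mk_pow, QuotientGroup.mk_mul,
        (QuotientGroup.eq_one_iff d).mpr (hKD hd), one_mul, ← QuotientGroup.mk_pow, hsj]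
      rfl
    obtain ⟨i, hi⟩ := exists_pow_mem_centralizer (p := p) h1
    exact ⟨j + i, by rw [pow_add, pow_mul]; exact hi⟩
  · have hDH := h.eq_core _ hD hHD hKD
    refine hHD (h.faithful a ha fun k hk => ?_)
    rw [← hDH]
    exact commutator_mem_stabCore hp2 (Nat.card B) H K hHp h.commutator_le (H.relIndex K)
      Subgroup.index_ne_zero_of_finite
      ((Fact.out : p.Prime).coprime_iff_not_dvd.mpr h.coprime).symm
      (fun x hx => by
        have := Subgroup.pow_index_mem (H.subgroupOf K) (⟨x, hx⟩ : K)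
        simpa [Subgroup.mem_subgroupOf, Subgroup.relIndex] using this)
      a (Subgroup.le_normalizer_of_normal (Subgroup.mem_top a)) B le_rfl hBH hquad k hk

/-- The functor `Z(J(S))`. -/
def centerThompsonFunctor (p : ℕ) [Fact p.Prime] : PFunctor'.{u} p where
  W S := Cfsg.centerThompsonOf p S
  W_le S := Modules.centerThompsonOf_le p S
  W_map f S h := by
    have hinj := PSolv.comp_subtype_injective f S h
    have h1 := Modules.map_centerThompsonOf (p := p) hinj ⊤
    rw [← Subgroup.map_map, ← Subgroup.map_map, Modules.map_centerThompsonOf S.subtype_injective,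
      ← MonoidHom.range_eq_map, Subgroup.range_subtype] at h1
    exact h1
  W_ne_bot S hS hne := by
    exact Modules.centerThompsonOf_ne_bot (p := p) (P := S) hS hne

/-- **Glauberman–Thompson normal p-complement theorem**. -/
theorem glauberman_thompson_npc (hp2 : p ≠ 2) {G : Type u} [Group G] [Finite G] (P : Sylow p G)
    (h : Cfsg.HasNormalPComplement p
      (Subgroup.normalizer (Cfsg.centerThompsonOf p (P : Subgroup G) : Set G))) :
    Cfsg.HasNormalPComplement p G := by
  refine npc_of_reduced (F := centerThompsonFunctor p) (c := False) P ⟨h, fun hF => hF.elim⟩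
    fun X _ _ Q K hred => ?_
  have hn := centerThompsonOf_normal hp2 hred.centralizer_le Q (hred.zjStable hp2)
  have h1 := hred.hyp.1
  change Cfsg.HasNormalPComplement p
    (Subgroup.normalizer (Cfsg.centerThompsonOf p (Q : Subgroup X) : Set X)) at h1
  rw [Subgroup.normalizer_eq_top (H := Cfsg.centerThompsonOf p (Q : Subgroup X)), npc_top_iff] at h1
  exact hred.not_npc h1

end Cfsg.Agent.H4
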